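import Mathlib

/-!
# S4908: lower bounds for modules of odd characteristic from extraspecial 2-groups (helper128)

`big`: `z` an involution, `(x, y) :: l` pairs with `x ^ 2 = 1`, `x y = y x z`, the `x` of a pair commuting with the later
pairs, `x` conjugate to `z`; `V` elementary abelian of odd exponent `r` with nontrivial action of `z`:
`r ^ (3 * 2 ^ |l|) ≤ |V|`.
-/

set_option autoImplicit false

namespace Cfsg.Agent.H128.S8.Ext

universe u v

section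

variable {X : Type v} [Group X] {V : Type u} [CommGroup V] (ρ : X →* MulAut V)

theorem act_mul (a b : X) (x : V) : ρ (a * b) x = ρ a (ρ b x) := by
  rw [map_mul, MulAut.mul_apply]

/-- the fixed points -/
def Pl (g : X) : Subgroup V where
  carrier := {x | ρ g x = x}
  one_mem' := map_one _
  mul_mem' := fun {a b} ha hb => by
    show ρ g (a * b) = a * b
    rw [map_mul, show ρ g a = a from ha, show ρ g b = b from hb]
  inv_mem' := fun {a} ha => by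
    show ρ g a⁻¹ = a⁻¹
    rw [map_inv, show ρ g a = a from ha]

/-- the inverted elements -/
def Mi (g : X) : Subgroup V where
  carrier := {x | ρ g x = x⁻¹}
  one_mem' := by
    show ρ g 1 = 1⁻¹
    rw [map_one, inv_one]
  mul_mem' := fun {a b} ha hb => by
    show ρ g (a * b) = (a * b)⁻¹
    rw [map_mul, show ρ g a = a⁻¹ from ha, show ρ g b = b⁻¹ from hb, mul_inv]
  inv_mem' := fun {a} ha => by
    show ρ g a⁻¹ = a⁻¹⁻¹
    rw [map_inv, show ρ g a = a⁻¹ from ha]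

theorem mem_Pl {g : X} {x : V} : x ∈ Pl ρ g ↔ ρ g x = x := Iff.rfl

theorem mem_Mi {g : X} {x : V} : x ∈ Mi ρ g ↔ ρ g x = x⁻¹ := Iff.rfl

theorem Pl_inv {g h : X} (c : Commute g h) {x : V} (hx : x ∈ Pl ρ g) : ρ h x ∈ Pl ρ g := by
  rw [mem_Pl, ← act_mul, c.eq, act_mul, (mem_Pl ρ).1 hx]

theorem Mi_inv {g h : X} (c : Commute g h) {x : V} (hx : x ∈ Mi ρ g) : ρ h x ∈ Mi ρ g := by
  rw [mem_Mi, ← act_mul, c.eq, act_mul, (mem_Mi ρ).1 hx, map_inv]

/-- the decomposition under an involution -/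
theorem card_split [Finite V] (hodd : Odd (Nat.card V)) (W : Subgroup V) {g : X} (hW : ∀ w ∈ W, ρ g w ∈ W)
    (hg : g * g = 1) : Nat.card W = Nat.card (W ⊓ Pl ρ g : Subgroup V) * Nat.card (W ⊓ Mi ρ g : Subgroup V) := by
  have hgg : ∀ w : V, ρ g (ρ g w) = w := by
    intro w
    rw [← act_mul, hg, map_one, MulAut.one_apply]
  let φ : W →* (W ⊓ Mi ρ g : Subgroup V) := {
    toFun := fun w => ⟨(w : V) * (ρ g w)⁻¹, W.mul_mem w.2 (W.inv_mem (hW w w.2)), by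
      show ρ g ((w : V) * (ρ g w)⁻¹) = ((w : V) * (ρ g w)⁻¹)⁻¹
      rw [map_mul, map_inv, hgg, mul_inv, inv_inv, mul_comm]⟩
    map_one' := Subtype.ext (by
      show ((1 : W) : V) * (ρ g ((1 : W) : V))⁻¹ = 1
      rw [Subgroup.coe_one, map_one, inv_one, one_mul])
    map_mul' := fun a b => Subtype.ext (by
      show ((a * b : W) : V) * (ρ g ((a * b : W) : V))⁻¹ = ((a : V) * (ρ g a)⁻¹) * ((b : V) * (ρ g b)⁻¹)
      rw [Subgroup.coe_mul, map_mul, mul_inv]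
      exact mul_mul_mul_comm _ _ _ _) }
  have h1 := φ.ker.card_mul_index
  rw [Subgroup.index_ker] at h1
  rw [← h1]
  congr 1
  · refine Nat.card_congr ⟨fun x => ⟨((x : W) : V), (x : W).2, ?_⟩, fun x => ⟨⟨(x : V), x.2.1⟩, ?_⟩, fun x => rfl,
      fun x => rfl⟩
    · have h2 : ((x : W) : V) * (ρ g ((x : W) : V))⁻¹ = 1 :=
        congrArg (fun w : (W ⊓ Mi ρ g : Subgroup V) => (w : V)) ((MonoidHom.mem_ker).1 x.2)
      exact (mul_inv_eq_one.1 h2).symm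
    · rw [MonoidHom.mem_ker]
      refine Subtype.ext ?_
      show (x : V) * (ρ g (x : V))⁻¹ = 1
      rw [(mem_Pl ρ).1 x.2.2, mul_inv_cancel]
  · have hsurj : Function.Surjective φ := by
      rintro ⟨m, hm, hm2⟩
      obtain ⟨k, hk⟩ := hodd
      refine ⟨⟨m ^ (k + 1), W.pow_mem hm _⟩, Subtype.ext ?_⟩
      show m ^ (k + 1) * (ρ g (m ^ (k + 1)))⁻¹ = m
      rw [map_pow, (mem_Mi ρ).1 hm2, inv_pow, inv_inv, ← pow_add, show k + 1 + (k + 1) = (2 * k + 1) + 1 by ring,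
        pow_succ, ← hk, pow_card_eq_one', one_mul]
    rw [MonoidHom.range_eq_top.2 hsurj, Subgroup.card_top]

/-- `x y = y x z`, `z` inverts `W`: `y` exchanges the two parts of `x` -/
theorem card_swap [Finite V] (W : Subgroup V) {x y z : X} (hy : ∀ w ∈ W, ρ y w ∈ W)
    (hz : ∀ w ∈ W, ρ z w = w⁻¹) (hxy : x * y = y * x * z) :
    Nat.card (W ⊓ Pl ρ x : Subgroup V) = Nat.card (W ⊓ Mi ρ x : Subgroup V) := by
  have key : ∀ w ∈ W, ρ x (ρ y w) = (ρ y (ρ x w))⁻¹ := by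
    intro w hw
    rw [← act_mul, hxy, act_mul, act_mul, hz w hw, map_inv, map_inv]
  apply le_antisymm
  · refine Nat.card_le_card_of_injective (fun w : (W ⊓ Pl ρ x : Subgroup V) =>
      (⟨ρ y w, hy _ w.2.1, ?_⟩ : (W ⊓ Mi ρ x : Subgroup V))) ?_
    · show ρ x (ρ y w) = (ρ y w)⁻¹
      rw [key _ w.2.1, (mem_Pl ρ).1 w.2.2]
    · intro a b hab
      have h1 : ρ y (a : V) = ρ y b := congrArg (fun w : (W ⊓ Mi ρ x : Subgroup V) => (w : V)) hab
      exact Subtype.ext ((ρ y).injective h1)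
  · refine Nat.card_le_card_of_injective (fun w : (W ⊓ Mi ρ x : Subgroup V) =>
      (⟨ρ y w, hy _ w.2.1, ?_⟩ : (W ⊓ Pl ρ x : Subgroup V))) ?_
    · show ρ x (ρ y w) = ρ y w
      rw [key _ w.2.1, (mem_Mi ρ).1 w.2.2, map_inv, inv_inv]
    · intro a b hab
      have h1 : ρ y (a : V) = ρ y b := congrArg (fun w : (W ⊓ Pl ρ x : Subgroup V) => (w : V)) hab
      exact Subtype.ext ((ρ y).injective h1)

/-- an extraspecial configuration -/
def Ok (z : X) : List (X × X) → Prop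
  | [] => True
  | p :: l => p.1 * p.1 = 1 ∧ p.1 * p.2 = p.2 * p.1 * z ∧ (∀ q ∈ l, Commute p.1 q.1 ∧ Commute p.1 q.2) ∧ Ok z l

/-- the order of an invariant subgroup inverted by `z` is a `2 ^ |l|`-th power -/
theorem exists_pow [Finite V] (hodd : Odd (Nat.card V)) {z : X} :
    ∀ (l : List (X × X)) (W : Subgroup V), Ok z l → (∀ q ∈ l, (∀ w ∈ W, ρ q.1 w ∈ W) ∧ ∀ w ∈ W, ρ q.2 w ∈ W) →
      (∀ w ∈ W, ρ z w = w⁻¹) → ∃ U : Subgroup V, Nat.card W = Nat.card U ^ 2 ^ l.length := by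
  intro l
  induction l with
  | nil => intro W _ _ _; exact ⟨W, by simp⟩
  | cons p l ih =>
    intro W hok hW hz
    obtain ⟨h1, h2, h3, h4⟩ := hok
    have hp := hW p List.mem_cons_self
    obtain ⟨U, hU⟩ := ih (W ⊓ Pl ρ p.1) h4
      (fun q hq => ⟨fun w hw => ⟨(hW q (List.mem_cons_of_mem _ hq)).1 w hw.1, Pl_inv ρ (h3 q hq).1 hw.2⟩,
        fun w hw => ⟨(hW q (List.mem_cons_of_mem _ hq)).2 w hw.1, Pl_inv ρ (h3 q hq).2 hw.2⟩⟩)
      (fun w hw => hz w hw.1)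
    refine ⟨U, ?_⟩
    rw [card_split ρ hodd W hp.1 h1, ← card_swap ρ W hp.2 hz h2, hU, ← pow_add, List.length_cons, pow_succ, mul_two]

theorem card_Mi_conj {g z t : X} (h : g * z * g⁻¹ = t) : Nat.card (Mi ρ t) = Nat.card (Mi ρ z) := by
  subst h
  have hg : ∀ x : V, ρ g (ρ g⁻¹ x) = x := fun x => by
    rw [← act_mul, mul_inv_cancel, map_one, MulAut.one_apply]
  have hg' : ∀ x : V, ρ g⁻¹ (ρ g x) = x := fun x => by
    rw [← act_mul, inv_mul_cancel, map_one, MulAut.one_apply]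
  refine Nat.card_congr ⟨fun x => ⟨ρ g⁻¹ x, ?_⟩, fun x => ⟨ρ g x, ?_⟩, fun x => Subtype.ext (hg x),
    fun x => Subtype.ext (hg' x)⟩
  · have h1 : ρ (g * z * g⁻¹) (x : V) = (x : V)⁻¹ := x.2
    rw [act_mul, act_mul] at h1
    show ρ z (ρ g⁻¹ x) = (ρ g⁻¹ (x : V))⁻¹
    apply (ρ g).injective
    rw [h1, map_inv, hg]
  · have h1 : ρ z (x : V) = (x : V)⁻¹ := x.2
    show ρ (g * z * g⁻¹) (ρ g x) = (ρ g (x : V))⁻¹
    rw [act_mul, act_mul, hg', h1, map_inv]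

/-- **the lower bound** -/
theorem big [Finite V] {r : ℕ} (hr : r.Prime) (hr2 : r ≠ 2) (hV : ∀ x : V, x ^ r = 1) {z : X} (hz : z * z = 1)
    {p : X × X} {l : List (X × X)} (hok : Ok z (p :: l)) (hc : Commute z p.1) (hc2 : Commute z p.2)
    (hcl : ∀ q ∈ l, Commute z q.1 ∧ Commute z q.2) (hconj : ∃ g, g * z * g⁻¹ = p.1) (hne : ∃ x : V, ρ z x ≠ x) :
    r ^ (3 * 2 ^ l.length) ≤ Nat.card V := by
  have : Fact r.Prime := ⟨hr⟩
  have hP : IsPGroup r V := fun x => ⟨1, by rw [pow_one]; exact hV x⟩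
  obtain ⟨n, hn⟩ := IsPGroup.iff_card.1 hP
  have hodd : Odd (Nat.card V) := by
    rw [hn]
    exact (hr.odd_of_ne_two hr2).pow
  obtain ⟨h1, h2, h3, h4⟩ := hok
  -- the four parts
  have e1 := card_split ρ hodd ⊤ (fun w _ => Subgroup.mem_top (ρ z w)) hz
  rw [top_inf_eq, top_inf_eq, Subgroup.card_top] at e1
  have e2 := card_split ρ hodd (Mi ρ z) (fun w hw => Mi_inv ρ hc hw) h1
  have e3 := card_swap ρ (Mi ρ z) (fun w hw => Mi_inv ρ hc2 hw) (fun w hw => hw) h2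
  have e4 := card_split ρ hodd (Mi ρ p.1) (fun w hw => Mi_inv ρ hc.symm hw) hz
  have e5 : Nat.card (Mi ρ p.1) = Nat.card (Mi ρ z) := by
    obtain ⟨g, hg⟩ := hconj
    exact card_Mi_conj ρ hg
  have e6 : (Mi ρ p.1 ⊓ Mi ρ z : Subgroup V) = Mi ρ z ⊓ Mi ρ p.1 := inf_comm _ _
  rw [e6] at e4
  set C := Nat.card (Mi ρ z ⊓ Pl ρ p.1 : Subgroup V) with hC
  rw [← e3] at e2 e4
  have hC0 : 0 < C := Nat.card_pos
  have e7 : Nat.card (Mi ρ p.1 ⊓ Pl ρ z : Subgroup V) = C := by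
    rw [e5, e2] at e4
    exact (Nat.eq_of_mul_eq_mul_right hC0 e4).symm
  have e8 : C ≤ Nat.card (Pl ρ z) := by
    rw [← e7]
    exact Nat.card_le_card_of_injective (Subgroup.inclusion inf_le_right) (Subgroup.inclusion_injective _)
  obtain ⟨U, hU⟩ := exists_pow ρ hodd l (Mi ρ z ⊓ Pl ρ p.1) h4
    (fun q hq => ⟨fun w hw => ⟨Mi_inv ρ (hcl q hq).1 hw.1, Pl_inv ρ (h3 q hq).1 hw.2⟩,
      fun w hw => ⟨Mi_inv ρ (hcl q hq).2 hw.1, Pl_inv ρ (h3 q hq).2 hw.2⟩⟩) (fun w hw => hw.1)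
  rw [← hC] at hU
  have hUr : r ≤ Nat.card U := by
    have hPU : IsPGroup r U := hP.to_subgroup U
    obtain ⟨m, hm⟩ := IsPGroup.iff_card.1 hPU
    rcases Nat.eq_zero_or_pos m with hm0 | hm0
    · exfalso
      rw [hm0, pow_zero] at hm
      rw [hm, one_pow] at hU
      rw [hU, one_mul] at e2
      rw [e2, mul_one] at e1
      have h5 : Pl ρ z = ⊤ := Subgroup.card_eq_iff_eq_top _ |>.1 e1.symm
      obtain ⟨x, hx⟩ := hne
      apply hx
      have h6 : x ∈ Pl ρ z := by rw [h5]; exact Subgroup.mem_top x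
      exact h6
    · rw [hm]
      exact Nat.le_self_pow hm0.ne' r
  calc r ^ (3 * 2 ^ l.length) ≤ Nat.card U ^ (3 * 2 ^ l.length) := Nat.pow_le_pow_left hUr _
    _ = C * (C * C) := by
      rw [hU, ← pow_add, ← pow_add]
      congr 1
      ring
    _ ≤ Nat.card (Pl ρ z) * (C * C) := Nat.mul_le_mul_right _ e8
    _ = Nat.card V := by rw [e1, e2]

end

end Cfsg.Agent.H128.S8.Ext
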