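import Mathlib

/-!
# S4908, He: `|[V, z]|` is a square in characteristic two (helper128 for helper584)

`V` elementary abelian of exponent two, `z` of odd prime order inverted by an involution `t`; the elements of norm one
with respect to `z` form a subgroup whose order is a square.
-/

set_option autoImplicit false

namespace Cfsg.Agent.H128.S8

universe u v

section

variable {X : Type v} [Group X] {V : Type u} [CommGroup V] (ρ : X →* MulAut V)

theorem act_mul (a b : X) (x : V) : ρ (a * b) x = ρ a (ρ b x) := by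
  rw [map_mul, MulAut.mul_apply]

/-- the norm -/
def nm (z : X) (p : ℕ) : V →* V where
  toFun x := ∏ k ∈ Finset.range p, ρ (z ^ k) x
  map_one' := by simp
  map_mul' x y := by simp [Finset.prod_mul_distrib]

theorem nm_apply (z : X) (p : ℕ) (x : V) : nm ρ z p x = ∏ k ∈ Finset.range p, ρ (z ^ k) x := rfl

theorem prod_shift {z : X} {p : ℕ} (hz : z ^ p = 1) (x : V) :
    ∏ k ∈ Finset.range p, ρ (z ^ (k + 1)) x = ∏ k ∈ Finset.range p, ρ (z ^ k) x := by
  have h1 := Finset.prod_range_succ' (fun k => ρ (z ^ k) x) p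
  have h2 := Finset.prod_range_succ (fun k => ρ (z ^ k) x) p
  rw [h1] at h2
  simp only [hz, pow_zero] at h2
  exact mul_right_cancel h2

theorem nm_z {z : X} {p : ℕ} (hz : z ^ p = 1) (x : V) : nm ρ z p (ρ z x) = nm ρ z p x := by
  rw [nm_apply, nm_apply]
  refine (Finset.prod_congr rfl fun k _ => ?_).trans (prod_shift ρ hz x)
  rw [← act_mul, ← pow_succ]

theorem conj_pow_inv {z t : X} (hzt : t * z * t⁻¹ = z⁻¹) (k : ℕ) : t * z ^ k * t⁻¹ = (z ^ k)⁻¹ := by
  rw [← conj_pow, hzt, inv_pow]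

theorem nm_t {z t : X} {p : ℕ} (hz : z ^ p = 1) (hzt : t * z * t⁻¹ = z⁻¹) (x : V) :
    nm ρ z p (ρ t x) = ρ t (nm ρ z p x) := by
  rw [nm_apply, nm_apply, map_prod, ← Finset.prod_range_reflect]
  have h1 : ∀ k ∈ Finset.range p, ρ (z ^ (p - 1 - k)) (ρ t x) = ρ t (ρ (z ^ (k + 1)) x) := by
    intro k hk
    rw [← act_mul, ← act_mul]
    congr 2
    have h2 := conj_pow_inv hzt (k + 1)
    have h3 : z ^ (p - 1 - k) = (z ^ (k + 1))⁻¹ := by
      rw [eq_inv_iff_mul_eq_one, ← pow_add, ← hz]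
      congr 1
      have := Finset.mem_range.1 hk
      omega
    rw [h3, ← h2]
    group
  rw [Finset.prod_congr rfl h1, ← map_prod, prod_shift ρ hz, map_prod]

/-- the elements fixed by `t` -/
def Ft (t : X) : Subgroup V where
  carrier := {x | ρ t x = x}
  one_mem' := map_one _
  mul_mem' := fun {a b} ha hb => by
    show ρ t (a * b) = a * b
    rw [map_mul, show ρ t a = a from ha, show ρ t b = b from hb]
  inv_mem' := fun {a} ha => by
    show ρ t a⁻¹ = a⁻¹
    rw [map_inv, show ρ t a = a from ha]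

theorem mem_Ft {t : X} {x : V} : x ∈ Ft ρ t ↔ ρ t x = x := Iff.rfl

theorem fix_pow {z : X} {x : V} (h : ρ z x = x) (k : ℕ) : ρ (z ^ k) x = x := by
  induction k with
  | zero => rw [pow_zero, map_one]; rfl
  | succ k ih => rw [pow_succ, act_mul, h, ih]

/-- no fixed points of `z` -/
theorem fix_z (hV : ∀ x : V, x ^ 2 = 1) {p : ℕ} (hp : Odd p) {z : X} {x : V} (h : ρ z x = x)
    (hN : nm ρ z p x = 1) : x = 1 := by
  rw [nm_apply, Finset.prod_congr rfl (fun k _ => fix_pow ρ h k), Finset.prod_const, Finset.card_range] at hN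
  obtain ⟨m, rfl⟩ := hp
  rw [pow_succ, pow_mul, hV, one_pow, one_mul] at hN
  exact hN

/-- an element fixed by `t` and by `z t z⁻¹` is fixed by `z` -/
theorem fix_both {p : ℕ} (hp : Odd p) {z t : X} (hz : z ^ p = 1) (ht : t ^ 2 = 1) (hzt : t * z * t⁻¹ = z⁻¹) {x : V}
    (h1 : ρ t x = x) (h2 : ρ (z * t * z⁻¹) x = x) : ρ z x = x := by
  have h3 : ρ (z * t * z⁻¹ * t) x = x := by rw [act_mul, h1, h2]
  have h4 : z * t * z⁻¹ * t = z ^ 2 := by
    have h5 : t⁻¹ = t := by
      rw [inv_eq_iff_mul_eq_one, ← sq, ht]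
    have h6 : t * z⁻¹ * t⁻¹ = z := by
      rw [← hzt]
      have : t * (t * z * t⁻¹) * t⁻¹ = (t * t) * z * (t * t)⁻¹ := by group
      rw [this, ← sq, ht, one_mul, inv_one, mul_one]
    rw [h5] at h6
    calc z * t * z⁻¹ * t = z * (t * z⁻¹ * t) := by group
      _ = z ^ 2 := by rw [h6, sq]
  rw [h4] at h3
  obtain ⟨m, rfl⟩ := hp
  have h7 : z = (z ^ 2) ^ (m + 1) := by
    rw [← pow_mul, show 2 * (m + 1) = (2 * m + 1) + 1 by ring, pow_succ, hz, one_mul]
  have h8 := fix_pow ρ h3 (m + 1)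
  rwa [← h7] at h8

/-- **the order of `[V, z]` is a square** -/
theorem sq_two [Finite V] (hV : ∀ x : V, x ^ 2 = 1) {p : ℕ} (hp : p.Prime) (hp2 : p ≠ 2) {z t : X} (hz : z ^ p = 1)
    (ht : t ^ 2 = 1) (hzt : t * z * t⁻¹ = z⁻¹) :
    ∃ f : ℕ, Nat.card {x : V // ∏ k ∈ Finset.range p, ρ (z ^ k) x = 1} = f * f := by
  have hodd : Odd p := hp.odd_of_ne_two hp2
  let U : Subgroup V := (nm ρ z p).ker
  let F : Subgroup V := U ⊓ Ft ρ t
  have hU : ∀ x : V, x ∈ U ↔ nm ρ z p x = 1 := fun x => Iff.rfl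
  have hF : ∀ x : V, x ∈ F ↔ nm ρ z p x = 1 ∧ ρ t x = x := fun x => Iff.rfl
  refine ⟨Nat.card F, ?_⟩
  show Nat.card U = _
  apply le_antisymm
  · -- `x ↦ x (t x)`
    let φ : U →* F := {
      toFun := fun x => ⟨(x : V) * ρ t x, (hF _).2 ⟨by rw [map_mul, nm_t ρ hz hzt, (hU _).1 x.2, map_one, one_mul], by
        rw [map_mul, ← act_mul, ← sq, ht, map_one, MulAut.one_apply, mul_comm]⟩⟩
      map_one' := Subtype.ext (by
        show ((1 : U) : V) * ρ t ((1 : U) : V) = 1
        rw [Subgroup.coe_one, map_one, one_mul])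
      map_mul' := fun x y => Subtype.ext (by
        show ((x * y : U) : V) * ρ t ((x * y : U) : V) = ((x : V) * ρ t x) * ((y : V) * ρ t y)
        rw [Subgroup.coe_mul, map_mul]
        exact mul_mul_mul_comm _ _ _ _) }
    have h1 := φ.ker.card_mul_index
    rw [Subgroup.index_ker] at h1
    rw [← h1]
    refine Nat.mul_le_mul ?_ ?_
    · refine Nat.card_le_card_of_injective (fun x : φ.ker => (⟨((x : U) : V), (hF _).2 ⟨(hU _).1 x.1.2, ?_⟩⟩ : F)) ?_
      · have h2 : ((x : U) : V) * ρ t ((x : U) : V) = 1 := congrArg Subtype.val ((MonoidHom.mem_ker).1 x.2)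
        have h3 : ((x : U) : V) * ((x : U) : V) = 1 := by rw [← sq, hV]
        exact mul_left_cancel (h2.trans h3.symm)
      · intro x y hxy
        have h2 : ((x : U) : V) = ((y : U) : V) := congrArg (fun w : F => (w : V)) hxy
        exact Subtype.ext (Subtype.ext h2)
    · exact Nat.card_le_card_of_injective (fun x : φ.range => (x : F)) Subtype.val_injective
  · rw [← Nat.card_prod]
    refine Nat.card_le_card_of_injective (fun q : F × F => (⟨(q.1 : V) * ρ z q.2, (hU _).2 ?_⟩ : U)) ?_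
    · rw [map_mul, nm_z ρ hz, ((hF _).1 q.1.2).1, ((hF _).1 q.2.2).1, one_mul]
    · rintro ⟨a, b⟩ ⟨a', b'⟩ h
      have h1 : (a : V) * ρ z b = (a' : V) * ρ z b' := congrArg Subtype.val h
      -- `c = a'⁻¹ a = z (b' b⁻¹)`
      have h2 : (a' : V)⁻¹ * a = ρ z ((b' : V) * (b : V)⁻¹) := by
        rw [map_mul, map_inv, eq_mul_inv_iff_mul_eq, mul_assoc, h1, inv_mul_cancel_left]
      have hc : (a' : V)⁻¹ * a ∈ F := F.mul_mem (F.inv_mem a'.2) a.2
      have hd : (b' : V) * (b : V)⁻¹ ∈ F := F.mul_mem b'.2 (F.inv_mem b.2)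
      have h3 : ρ (z * t * z⁻¹) ((a' : V)⁻¹ * a) = (a' : V)⁻¹ * a := by
        rw [h2, ← act_mul, show z * t * z⁻¹ * z = z * t by group, act_mul, ((hF _).1 hd).2]
      have h4 := fix_both ρ hodd hz ht hzt ((hF _).1 hc).2 h3
      have h5 : (a' : V)⁻¹ * a = 1 := fix_z ρ hV hodd h4 ((hF _).1 hc).1
      have h6 : (b' : V) * (b : V)⁻¹ = 1 := by
        rw [h5] at h2
        have h7 : ρ z ((b' : V) * (b : V)⁻¹) = ρ z 1 := by rw [← h2, map_one]
        exact (ρ z).injective h7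
      have ha : a = a' := Subtype.ext (inv_mul_eq_one.1 h5).symm
      have hb : b = b' := Subtype.ext (mul_inv_eq_one.1 h6).symm
      rw [ha, hb]

end

end Cfsg.Agent.H128.S8
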